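import Groth.Agent.TorIndepLib.Algebra
import Groth.Agent.EtAlgEasy.ConormalStalk
import Groth.Agent.IdealStalkLib.Comap
import Groth.Agent.CurveLib.TensorDeg
import Groth.Agent.S0611
import Groth.Agent.KRRAmple.PushCl

/-!
Regular closed immersions on stalks: the length of a regular sequence is the rank of the conormal module.
-/

set_option autoImplicit false
set_option linter.style.haveILetI false
set_option backward.isDefEq.respectTransparency false

universe u

open CategoryTheory CategoryTheory.Limits AlgebraicGeometry RingTheory.Sequence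
open Groth.Agent.PullbackMod

noncomputable section

namespace Groth.Agent.TorIndepLib

variable {Z X : Scheme.{u}} (j : Z ⟶ X) [IsClosedImmersion j]

theorem finrank_conormal {d : ℕ} (hc : FlatMod.IsFinLocFreeOfRank d (Omega.conormal j)) (z : Z) {n : ℕ}
    (b : Fin n → X.presheaf.stalk (j z)) (hb : IsWeaklyRegular (X.presheaf.stalk (j z)) (List.ofFn b))
    (hspan : Ideal.span (Set.range b) = RingHom.ker (j.stalkMap z).hom) : n = d := by
  classical
  let A := X.presheaf.stalk (j z)
  let S := Z.presheaf.stalk z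
  let M := ClSub.idealMod j.ker
  let N : Type u := ((Scheme.Modules.pullback j).obj M).presheaf.stalk z
  letI : Algebra A S := (j.stalkMap z).hom.toAlgebra
  letI : Module A N := Module.compHom N (j.stalkMap z).hom
  haveI : IsScalarTower A S N := .of_algebraMap_smul fun _ _ => rfl
  let l : M.presheaf.stalk (j z) →ₗ[A] N := pullStalkL j M z
  obtain ⟨hsurj, hker⟩ := ConormalLib.surjective_and_eq_zero_iff (A := A)
    (B := S) (j.stalkMap_surjective z) (isBaseChange_pullStalkL' j M z : IsBaseChange S l)
  obtain ⟨e, he, her, -⟩ := EtAlgEasy.GrMapStalk.exists_toFn j.ker (j z)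
  rw [EtAlgEasy.ConormalStalk.stalkIdeal_ker, ← hspan] at her
  have hm : ∀ i, ∃ m, e m = b i := fun i =>
    LinearMap.mem_range.1 (her.ge (Ideal.subset_span ⟨i, rfl⟩))
  choose m hm using hm
  have hq := Groth.Agent.QRegLib.isQuasiRegular_of_isWeaklyRegular b hb
  have hspanS : ⊤ ≤ Submodule.span S (Set.range fun i => l (m i)) := by
    intro w _
    obtain ⟨v, rfl⟩ := hsurj w
    obtain ⟨a, ha⟩ := Ideal.mem_span_range_iff_exists_fun.1 (her.le (LinearMap.mem_range_self e v))
    have hv : v = ∑ i, a i • m i := he (by simp only [map_sum, map_smul, hm, smul_eq_mul, ha])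
    rw [hv, map_sum]
    refine sum_mem fun i _ => ?_
    rw [map_smul, ← algebraMap_smul S (a i) (l (m i))]
    exact Submodule.smul_mem _ _ (Submodule.subset_span ⟨i, rfl⟩)
  have hli : LinearIndependent S fun i => l (m i) := by
    rw [Fintype.linearIndependent_iff]
    intro g hg i
    choose a ha using fun i => j.stalkMap_surjective z (g i)
    have h0 : l (∑ i, a i • m i) = 0 := by
      rw [map_sum, ← hg]
      refine Finset.sum_congr rfl fun i _ => ?_
      rw [map_smul, ← algebraMap_smul S (a i) (l (m i))]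
      exact congrArg (· • l (m i)) (ha i)
    have h1 : e (∑ i, a i • m i) ∈ (RingHom.ker (algebraMap A S) • (⊤ : Submodule A (M.presheaf.stalk (j z)))).map e :=
      Submodule.mem_map_of_mem ((hker _).1 h0)
    rw [Submodule.map_smul'', ← LinearMap.range_eq_map, her, show RingHom.ker (algebraMap A S) =
      Ideal.span (Set.range b) from hspan.symm, smul_eq_mul] at h1
    simp only [map_sum, map_smul, hm, smul_eq_mul] at h1
    obtain ⟨c, hc', hcs⟩ : ∃ c : Fin n → A, (∀ i, c i ∈ Ideal.span (Set.range b)) ∧ ∑ i, c i * b i = ∑ i, a i * b i := by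
      revert h1
      generalize ∑ i, a i * b i = t
      intro h1
      induction h1 using Submodule.mul_induction_on' with
      | mem_mul_mem p hp q hq =>
        obtain ⟨c, rfl⟩ := Ideal.mem_span_range_iff_exists_fun.1 hq
        exact ⟨fun i => p * c i, fun i => Ideal.mul_mem_right _ _ hp, by
          rw [Finset.mul_sum]; exact Finset.sum_congr rfl fun i _ => mul_assoc _ _ _⟩
      | add p _ q _ h h' =>
        obtain ⟨c, hc, hcp⟩ := h
        obtain ⟨c', hc', hcq⟩ := h'
        exact ⟨c + c', fun i => add_mem (hc i) (hc' i), by simp [add_mul, Finset.sum_add_distrib, hcp, hcq]⟩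
    have h2 := RegIdealLib.coeff_mem_of_relation b hq (fun i => a i - c i)
      (by simp [sub_mul, Finset.sum_sub_distrib, hcs]) i
    have h3 := add_mem h2 (hc' i)
    rw [sub_add_cancel, hspan, RingHom.mem_ker] at h3
    rw [← ha i]
    exact h3
  let B : Module.Basis (Fin n) S N := Module.Basis.mk hli hspanS
  obtain ⟨f⟩ := CurveLib.freeAt_of_isFinLocFreeOfRank hc z
  let B' : Module.Basis (Fin d) S N :=
    (Pi.basisFun S (Fin d)).map (show (Fin d → S) ≃ₗ[S] N from f.symm)
  simpa using Fintype.card_congr (B.indexEquiv B')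

/-- On stalks, a regular closed immersion is cut out by a regular sequence as long as the conormal rank. -/
theorem exists_seq (hj : Mor2.IsRegularClosedImmersion j) {d : ℕ}
    (hc : FlatMod.IsFinLocFreeOfRank d (Omega.conormal j)) (z : Z) :
    ∃ b : Fin d → X.presheaf.stalk (j z), IsRegular (X.presheaf.stalk (j z)) (List.ofFn b) ∧
      Ideal.span (Set.range b) = RingHom.ker (j.stalkMap z).hom := by
  obtain ⟨U, hU, hzU, rs, hreg, hker⟩ := hj.2 z
  letI : Algebra Γ(X, U) (X.presheaf.stalk (j z)) :=
    TopCat.Presheaf.algebra_section_stalk X.presheaf ⟨j z, hzU⟩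
  haveI := hU.isLocalization_stalk ⟨j z, hzU⟩
  have hreg' : IsWeaklyRegular (X.presheaf.stalk (j z)) (rs.map (algebraMap Γ(X, U) _)) :=
    hreg.toIsWeaklyRegular.of_isLocalization _ (hU.primeIdealOf ⟨j z, hzU⟩).asIdeal.primeCompl
  have hci : IsClosedImmersion (j ∣_ U) := IsZariskiLocalAtTarget.restrict ‹_› U
  have hk : RingHom.ker (j.stalkMap z).hom = Ideal.ofList (rs.map (algebraMap Γ(X, U) _)) := by
    rw [RegIdealLib.ker_stalkMap j hU hci z hzU, ← Ideal.map_ofList, ← hker, Scheme.Hom.ker_apply]
    rfl
  set l := rs.map (algebraMap Γ(X, U) (X.presheaf.stalk (j z))) with hl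
  have hls : Ideal.span (Set.range l.get) = RingHom.ker (j.stalkMap z).hom := by
    rw [hk, ← RegIdealLib.ofList_ofFn, List.ofFn_get]
  obtain rfl : l.length = d := finrank_conormal j hc z l.get (by rwa [List.ofFn_get]) hls
  refine ⟨l.get, ⟨by rwa [List.ofFn_get], ?_⟩, hls⟩
  rw [RegIdealLib.ofList_ofFn, hls, smul_eq_mul, Ideal.mul_top]
  exact (RingHom.ker_ne_top _).symm

end Groth.Agent.TorIndepLib
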