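import Groth.Agent.TorIndepLib.Main
import Groth.Agent.KRRAmple.PushClMul

/-!
Base change and intersection formula in `K₀` for regular closed immersions of the same codimension.
-/

set_option autoImplicit false
set_option linter.style.haveILetI false
set_option backward.isDefEq.respectTransparency false

universe u

open CategoryTheory CategoryTheory.Limits AlgebraicGeometry
open Groth.Agent.KRRAmple Groth.Agent.DCohLib

noncomputable section

namespace Groth.Agent.TorIndepLib

variable {X Y P M : Scheme.{u}} {F : P ⟶ M} {φ : Y ⟶ M} {f : X ⟶ Y} {ψ : X ⟶ P}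
  [IsLocallyNoetherian Y] [IsLocallyNoetherian M] [CompactSpace P]
  (hsq : IsPullback f ψ φ F)

omit [IsLocallyNoetherian M] [CompactSpace P] in
theorem enough_closed {Z : Scheme.{u}} (s : Z ⟶ Y) [IsClosedImmersion s] (hYe : KRR.HasEnoughLocFree Y) :
    KRR.HasEnoughLocFree Z := fun G hG => by
  obtain ⟨E, p, hE, hp⟩ := hYe _ (DevLib.isCoh_pushforward_closed s hG)
  haveI := hp
  haveI := isIso_counit_closedImmersion s G
  haveI : PreservesColimitsOfSize.{u, u} (Scheme.Modules.pullback s) :=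
    (Scheme.Modules.pullbackPushforwardAdjunction s).leftAdjoint_preservesColimits
  haveI : PreservesColimitsOfSize.{0, 0} (Scheme.Modules.pullback s) := preservesColimitsOfSize_shrink _
  haveI : Epi ((Scheme.Modules.pullback s).map p) := inferInstance
  exact ⟨_, (Scheme.Modules.pullback s).map p ≫ (Scheme.Modules.pullbackPushforwardAdjunction s).counit.app G,
    PullbackMod.isFinLocFree_pullback s E hE, epi_comp _ _⟩

include hsq in
theorem pull_push (hF : Mor2.IsRegularClosedImmersion F) (hf : Mor2.IsRegularClosedImmersion f) {d : ℕ}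
    (hcF : FlatMod.IsFinLocFreeOfRank d (Omega.conormal F)) (hcf : FlatMod.IsFinLocFreeOfRank d (Omega.conormal f))
    (hMe : KRR.HasEnoughLocFree M) {KX KY KP KM : Type*} [CommRing KX] [CommRing KY] [CommRing KP] [CommRing KM]
    (φX : SGA6.Kvb X →+ KX) (φY : SGA6.Kvb Y →+ KY) (φP : SGA6.Kvb P →+ KP) (hφP : Function.Surjective φP)
    (φM : SGA6.Kvb M →+ KM)
    (gφ : KM →+ KY) (hgφ : KRR.IsPull φ φM φY gφ) (gψ : KP →+ KX) (hgψ : KRR.IsPull ψ φP φX gψ)
    (gF : KP →+ KM) (hgF : KRR.IsPushCl F φP φM gF) (gf : KX →+ KY) (hgf : KRR.IsPushCl f φX φY gf)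
    (p : KP) : gφ (gF p) = gf (gψ p) := by
  obtain ⟨a, rfl⟩ := hφP p
  refine DFunLike.congr_fun (show (gφ.comp gF).comp φP = (gf.comp gψ).comp φP from
    addMonoidHom_ext_cl fun E hE => ?_) a
  obtain ⟨n, L, π, hL⟩ := exists_lfRes_push F hF hMe E hE
  obtain ⟨π', hL'⟩ := exists_res hsq hF hf hcF hcf hE hL
  show gφ (gF (φP (KRR.cl P E))) = gf (gψ (φP (KRR.cl P E)))
  rw [hgψ E hE, hgf _ (PullbackMod.isFinLocFree_pullback ψ E hE) n _ π' hL', hgF E hE n L π hL, map_sum]
  refine Finset.sum_congr rfl fun k _ => ?_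
  rw [map_zsmul, hgφ _ (hL.finLocFree k)]
  rfl

end Groth.Agent.TorIndepLib
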