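import Groth.Agent.TorRegLib.Basic
import Groth.Agent.TorLib.Symm
import Mathlib.RingTheory.Flat.Basic
import Mathlib.LinearAlgebra.TensorProduct.Tower

/-!
`Tor` between a flat module over a quotient by a regular sequence and a module on which the
sequence stays regular.
-/

set_option autoImplicit false
set_option linter.style.haveILetI false

open CategoryTheory CategoryTheory.Limits MonoidalCategory RingTheory.Sequence TensorProduct

universe u

noncomputable section

namespace Groth.Agent.TorIndepLib

open TorLib TorRegLib

variable {A : Type u} [CommRing A]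

theorem isZero_cx_quot {N : ModuleCat.{u} A} (P : ProjectiveResolution N) (rs : List A)
    (hA : IsWeaklyRegular A rs) (hN : IsWeaklyRegular N rs) :
    ∀ n, IsZero ((cx P (ModuleCat.of A (A ⧸ Ideal.ofList rs))).homology (n + 1)) := by
  let Q : ℕ → Ideal A := fun k => Ideal.ofList (rs.take k)
  have key : ∀ k, k ≤ rs.length → ∀ n, IsZero ((cx P (ModuleCat.of A (A ⧸ Q k))).homology (n + 1)) := by
    intro k
    induction k with
    | zero =>
      intro _ n
      haveI : Module.Flat A (ModuleCat.of A (A ⧸ Q 0)) :=
        Module.Flat.of_linearEquiv (Submodule.quotEquivOfEqBot (Q 0) (by simp [Q]))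
      exact (HomologicalComplex.exactAt_iff_isZero_homology _ _).mp (exactAt_succ_of_flat P _ n)
    | succ k ih =>
      intro hk n
      have hQ : Q (k + 1) = Q k ⊔ Ideal.span {rs[k]} := by
        simp only [Q, List.take_succ_eq_append_getElem hk, Ideal.ofList_append, Ideal.ofList_singleton]
      have hs := stepSeq_shortExact (I := Q k) (I' := Q (k + 1)) (r := rs[k]) (hQ ▸ le_sup_left)
        (hQ ▸ Submodule.mem_sup_right (Ideal.mem_span_singleton_self _)) hQ.le (by
          have := hA.regular_mod_prev k hk
          rwa [smul_eq_mul, Ideal.mul_top] at this)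
      refine TorRegLib.isZero_succ P hs n (ih (by omega) n) ?_
      cases n with
      | zero => exact ((h0Equiv P (Q k)).isSMulRegular_congr _).mpr (hN.regular_mod_prev k hk)
      | succ m =>
        haveI := ModuleCat.subsingleton_of_isZero (ih (by omega) m)
        exact fun a b _ => Subsingleton.elim _ _
  intro n
  have h := key rs.length le_rfl n
  rwa [show Q rs.length = Ideal.ofList rs by simp [Q]] at h

/-- Flat modules over a quotient have no higher `Tor` with a module without higher `Tor` with the quotient. -/
theorem isZero_cx_of_flat {N : ModuleCat.{u} A} (P : ProjectiveResolution N) (S : Type u) [CommRing S] [Algebra A S]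
    (M : Type u) [AddCommGroup M] [Module A M] [Module S M] [IsScalarTower A S M] [Module.Flat S M] (n : ℕ)
    (h : IsZero ((cx P (ModuleCat.of A S)).homology (n + 1))) :
    IsZero ((cx P (ModuleCat.of A M)).homology (n + 1)) := by
  rw [← HomologicalComplex.exactAt_iff_isZero_homology,
    HomologicalComplex.exactAt_iff' _ (n + 2) (n + 1) n (by simp) (by simp),
    ShortComplex.ShortExact.moduleCat_exact_iff_function_exact] at h ⊢
  let d₁ := (P.complex.d (n + 2) (n + 1)).hom
  let d₀ := (P.complex.d (n + 1) n).hom
  have h' : Function.Exact (d₁.baseChange S) (d₀.baseChange S) := fun z => h z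
  have h2 := Module.Flat.lTensor_exact M h'
  refine (Function.Exact.iff_of_ladder_addEquiv
    (AlgebraTensorModule.cancelBaseChange A S S M (P.complex.X (n + 2))).toAddEquiv
    (AlgebraTensorModule.cancelBaseChange A S S M (P.complex.X (n + 1))).toAddEquiv
    (AlgebraTensorModule.cancelBaseChange A S S M (P.complex.X n)).toAddEquiv
    (f₁₂ := ((d₁.baseChange S).lTensor M).toAddMonoidHom) (f₂₃ := ((d₀.baseChange S).lTensor M).toAddMonoidHom)
    (g₁₂ := (d₁.lTensor M).toAddMonoidHom) (g₂₃ := (d₀.lTensor M).toAddMonoidHom) ?_ ?_).2 h2
  · ext z
    induction z using TensorProduct.induction_on with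
    | zero => simp
    | add a b ha hb => simp only [map_add, ha, hb]
    | tmul m w =>
      induction w using TensorProduct.induction_on with
      | zero => simp
      | add a b ha hb => simp only [tmul_add, map_add, ha, hb]
      | tmul s x => simp
  · ext z
    induction z using TensorProduct.induction_on with
    | zero => simp
    | add a b ha hb => simp only [map_add, ha, hb]
    | tmul m w =>
      induction w using TensorProduct.induction_on with
      | zero => simp
      | add a b ha hb => simp only [tmul_add, map_add, ha, hb]
      | tmul s x => simp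

/-- Higher `Tor` vanishes between a module on which a regular sequence stays regular and a flat module
over the quotient by the sequence. -/
theorem subsingleton_tor {S : Type u} [CommRing S] [Algebra A S] (hS : Function.Surjective (algebraMap A S))
    (rs : List A) (hker : RingHom.ker (algebraMap A S) = Ideal.ofList rs)
    (hA : IsWeaklyRegular A rs) (B : Type u) [AddCommGroup B] [Module A B] (hB : IsWeaklyRegular B rs)
    (M : Type u) [AddCommGroup M] [Module A M] [Module S M] [IsScalarTower A S M] [Module.Flat S M] (n : ℕ) :
    Subsingleton (DRing.Tor A (n + 1) B M) := by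
  let P := projectiveResolution (ModuleCat.of A B)
  let e : (A ⧸ Ideal.ofList rs) ≃ₗ[A] S :=
    (Submodule.quotEquivOfEq _ _ hker.symm).trans
      (LinearMap.quotKerEquivOfSurjective (Algebra.linearMap A S) hS)
  have hq := (isZero_cx_quot P rs hA hB n).of_iso
    (HomologicalComplex.homologyFunctor _ _ (n + 1) |>.mapIso
      (((tensoringLeft (ModuleCat.{u} A)).mapIso e.toModuleIso |>.symm |> fun i =>
        (NatIso.mapHomologicalComplex i (ComplexShape.down ℕ)).app P.complex)))
  have hM := isZero_cx_of_flat P S M n hq
  haveI : Subsingleton (DRing.Tor A (n + 1) M B) :=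
    ModuleCat.subsingleton_of_isZero (hM.of_iso (torIso P (ModuleCat.of A M) (n + 1)))
  obtain ⟨c⟩ := tor_symm (A := A) (n + 1) B M
  exact c.toEquiv.subsingleton

/-- A flat resolution of a module with no higher `Tor` against `B` stays exact after tensoring. -/
theorem exactAt_tensor {M : ModuleCat.{u} A} (P : ProjectiveResolution M) (B : Type u) [AddCommGroup B] [Module A B]
    (h : ∀ n, Subsingleton (DRing.Tor A (n + 1) B M)) (n : ℕ) : (cx P (ModuleCat.of A B)).ExactAt (n + 1) := by
  haveI := h n
  exact (HomologicalComplex.exactAt_iff_isZero_homology _ _).mpr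
    ((ModuleCat.isZero_of_subsingleton (ModuleCat.of A (DRing.Tor A (n + 1) B M))).of_iso
      (torIso P (ModuleCat.of A B) (n + 1)).symm)

end Groth.Agent.TorIndepLib
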