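import Groth.Agent.TorIndepLib.Stalk
import Groth.Agent.KRRAmple.PushClDisjoint
import Groth.Agent.DCohLib.PullQis
import Groth.Agent.DCohLib.StalkKFlat
import Groth.Agent.EtAlgEasy.GrMapStalk

/-!
Base change for push-forwards along regular closed immersions of the same codimension.
-/

set_option autoImplicit false
set_option linter.style.haveILetI false
set_option backward.isDefEq.respectTransparency false

universe u

open CategoryTheory CategoryTheory.Limits AlgebraicGeometry RingTheory.Sequence
open Groth.Agent.DCohLib Groth.Agent.PullbackMod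

noncomputable section

namespace Groth.Agent.TorIndepLib

variable {X Y P M : Scheme.{u}} {F : P ⟶ M} {φ : Y ⟶ M} {f : X ⟶ Y} {ψ : X ⟶ P}
  (hsq : IsPullback f ψ φ F)

include hsq in
theorem stalkIdeal_eq_map [IsClosedImmersion F] [IsClosedImmersion f] (x : X) :
    RingHom.ker (f.stalkMap x).hom =
      (IntMult.stalkIdeal F.ker (φ (f x))).map (φ.stalkMap (f x)).hom := by
  have h := EtAlgEasy.GrMapStalk.comap_ker_pow F φ ψ f hsq.flip 1
  rw [pow_one, pow_one] at h
  rw [← EtAlgEasy.ConormalStalk.stalkIdeal_ker f x, ← h, IdealStalkLib.stalkIdeal_comap]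

include hsq in
theorem mem_range_of_mem_range {y : Y} (h : φ y ∈ Set.range F) : y ∈ Set.range f := by
  obtain ⟨q, hq⟩ := h
  obtain ⟨w, hw, -⟩ := Scheme.Pullback.exists_preimage_pullback (f := φ) (g := F) y q hq.symm
  exact ⟨hsq.isoPullback.inv w, by rw [← hw, ← Scheme.Hom.comp_apply, hsq.isoPullback_inv_fst]⟩

theorem smul_stalk_pushforward [IsClosedImmersion F] (E : P.Modules) (q : M) (a : M.presheaf.stalk q)
    (ha : a ∈ IntMult.stalkIdeal F.ker q) (z : ((Scheme.Modules.pushforward F).obj E).presheaf.stalk q) : a • z = 0 := by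
  by_cases hq : q ∈ Set.range F
  · obtain ⟨p, rfl⟩ := hq
    rw [EtAlgEasy.ConormalStalk.stalkIdeal_ker] at ha
    exact (suppOn_pushforward F E).smul_eq_zero p a ha z
  · exact (subsingleton_stalk_pushforward F E q hq).elim _ _

include hsq in
theorem suppOn_pullback [IsClosedImmersion F] [IsClosedImmersion f] (E : P.Modules) :
    SuppOn f ((Scheme.Modules.pullback φ).obj ((Scheme.Modules.pushforward F).obj E)) where
  subsingleton y hy := by
    haveI := subsingleton_stalk_pushforward F E (φ y) fun h => hy (mem_range_of_mem_range hsq h)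
    letI := (φ.stalkMap y).hom.toAlgebra
    refine (pullStalkEquiv φ y ((Scheme.Modules.pushforward F).obj E)).symm.toEquiv.subsingleton_congr.2 ?_
    refine subsingleton_of_forall_eq 0 fun c => ?_
    induction c using TensorProduct.induction_on with
    | zero => rfl
    | tmul b m => rw [Subsingleton.elim m 0, TensorProduct.tmul_zero]
    | add p q hp hq => rw [hp, hq, add_zero]
  smul_eq_zero x a ha z := by
    letI := (φ.stalkMap (f x)).hom.toAlgebra
    obtain ⟨c, rfl⟩ := (pullStalkEquiv φ (f x) ((Scheme.Modules.pushforward F).obj E)).surjective z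
    have ha' : a ∈ (IntMult.stalkIdeal F.ker (φ (f x))).map (φ.stalkMap (f x)).hom := by
      rw [← stalkIdeal_eq_map hsq x]; exact ha
    rw [← map_smul]
    suffices h : a • c = 0 by rw [h, map_zero]
    clear ha
    induction ha' using Submodule.span_induction with
    | mem r hr =>
      obtain ⟨s, hs, rfl⟩ := hr
      induction c using TensorProduct.induction_on with
      | zero => rw [smul_zero]
      | tmul b m =>
        rw [show (φ.stalkMap (f x)).hom s = algebraMap _ _ s from rfl, algebraMap_smul, ← TensorProduct.tmul_smul,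
          smul_stalk_pushforward E _ s hs m, TensorProduct.tmul_zero]
      | add p q hp hq => rw [smul_add, hp, hq, add_zero]
    | zero => rw [zero_smul]
    | add p q _ _ hp hq => rw [add_smul, hp, hq, add_zero]
    | smul r p _ hp => rw [smul_assoc, hp, smul_zero]

include hsq in
/-- Base change of a direct image along a closed immersion, without higher terms. -/
def pullPushIso [IsClosedImmersion F] [IsClosedImmersion f] (E : P.Modules) :
    (Scheme.Modules.pullback φ).obj ((Scheme.Modules.pushforward F).obj E) ≅
      (Scheme.Modules.pushforward f).obj ((Scheme.Modules.pullback ψ).obj E) :=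
  haveI := isIso_unit_of_suppOn f (suppOn_pullback hsq E)
  haveI := isIso_counit_closedImmersion F E
  asIso ((Scheme.Modules.pullbackPushforwardAdjunction f).unit.app _) ≪≫
    (Scheme.Modules.pushforward f).mapIso
      ((Scheme.Modules.pullbackComp f φ).app _ ≪≫ (Scheme.Modules.pullbackCongr hsq.w).app _ ≪≫
        ((Scheme.Modules.pullbackComp ψ F).app _).symm ≪≫
        (Scheme.Modules.pullback ψ).mapIso (asIso ((Scheme.Modules.pullbackPushforwardAdjunction F).counit.app E)))

theorem subsingleton_tor_stalk [IsClosedImmersion F] (hF : Mor2.IsRegularClosedImmersion F) {d : ℕ}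
    (hcF : FlatMod.IsFinLocFreeOfRank d (Omega.conormal F)) {E : P.Modules} (hE : FlatMod.IsFinLocFree E)
    (q : M) (B : Type u) [AddCommGroup B] [Module (M.presheaf.stalk q) B]
    (hB : q ∈ Set.range F → ∀ b : Fin d → M.presheaf.stalk q,
      Ideal.span (Set.range b) = IntMult.stalkIdeal F.ker q → IsWeaklyRegular B (List.ofFn b))
    (n : ℕ) :
    Subsingleton (DRing.Tor (M.presheaf.stalk q) (n + 1) B
      ((stkF q).obj ((Scheme.Modules.pushforward F).obj E))) := by
  let A := M.presheaf.stalk q
  by_cases hq : q ∈ Set.range F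
  · have hq' := hq
    obtain ⟨p, rfl⟩ := hq'
    let S := P.presheaf.stalk p
    let T : Type u := (stkF p).obj E
    letI : Algebra (M.presheaf.stalk (F p)) S := (F.stalkMap p).hom.toAlgebra
    let T' : ModuleCat.{u} (M.presheaf.stalk (F p)) := (ModuleCat.restrictScalars (F.stalkMap p).hom).obj ((stkF p).obj E)
    letI : Module S T' := inferInstanceAs (Module S ((stkF p).obj E))
    haveI : IsScalarTower (M.presheaf.stalk (F p)) S T' := .of_algebraMap_smul fun _ _ => rfl
    haveI : Module.Projective S ((stkF p).obj E) := DerSchH7.projective_stalk_of_isFinLocFree hE p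
    haveI : Module.Flat S T' := inferInstanceAs (Module.Flat S ((stkF p).obj E))
    obtain ⟨b, hb, hbs⟩ := exists_seq F hF hcF p
    have hB' := hB hq b (by rw [hbs, EtAlgEasy.ConormalStalk.stalkIdeal_ker])
    haveI := subsingleton_tor (S := S) (F.stalkMap_surjective p) (List.ofFn b)
      (by rw [RegIdealLib.ofList_ofFn, hbs]; rfl) hb.toIsWeaklyRegular B hB' T' n
    exact ((((CategoryTheory.Tor (ModuleCat.{u} (M.presheaf.stalk (F p))) (n + 1)).obj (ModuleCat.of _ B)).mapIso
      ((DerSchH7.pushStalkNatIso F p).app E)).toLinearEquiv.toEquiv.subsingleton_congr).2 ‹_›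
  · haveI : Subsingleton ((stkF q).obj ((Scheme.Modules.pushforward F).obj E)) :=
      subsingleton_stalk_pushforward F E q hq
    haveI : Module.Free A ((stkF q).obj ((Scheme.Modules.pushforward F).obj E)) := Module.Free.of_subsingleton _ _
    obtain ⟨c⟩ := TorLib.tor_symm (A := A) (n + 1) B ((stkF q).obj ((Scheme.Modules.pushforward F).obj E))
    haveI := TorLib.subsingleton_tor_of_flat (A := A) ((stkF q).obj ((Scheme.Modules.pushforward F).obj E)) B n
    exact c.toEquiv.subsingleton

variable [IsLocallyNoetherian Y]

include hsq in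
/-- The pull-back of a resolution is a resolution. -/
theorem exists_res (hF : Mor2.IsRegularClosedImmersion F) (hf : Mor2.IsRegularClosedImmersion f) {d : ℕ}
    (hcF : FlatMod.IsFinLocFreeOfRank d (Omega.conormal F)) (hcf : FlatMod.IsFinLocFreeOfRank d (Omega.conormal f))
    {E : P.Modules} (hE : FlatMod.IsFinLocFree E) {n : ℕ} {L : ChainComplex M.Modules ℕ}
    {π : L ⟶ (ChainComplex.single₀ M.Modules).obj ((Scheme.Modules.pushforward F).obj E)}
    (hL : KRR.IsLFRes ((Scheme.Modules.pushforward F).obj E) n L π) :
    ∃ π' : ((Scheme.Modules.pullback φ).mapHomologicalComplex (ComplexShape.down ℕ)).obj L ⟶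
      (ChainComplex.single₀ Y.Modules).obj ((Scheme.Modules.pushforward f).obj ((Scheme.Modules.pullback ψ).obj E)),
      KRR.IsLFRes _ n _ π' := by
  haveI := hF.1
  haveI := hf.1
  haveI := hL.quasiIso
  let G := Scheme.Modules.pullback φ
  let L' := (G.mapHomologicalComplex (ComplexShape.down ℕ)).obj L
  have hex : ∀ i, L'.ExactAt (i + 1) := fun i => by
    rw [HomologicalComplex.exactAt_iff' _ (i + 2) (i + 1) i (by simp) (by simp), exact_iff_stkF]
    intro y
    let A := M.presheaf.stalk (φ y)
    let B := Y.presheaf.stalk y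
    letI : Algebra A B := (φ.stalkMap y).hom.toAlgebra
    let K := stkF (φ y)
    let PR : ProjectiveResolution (K.obj ((Scheme.Modules.pushforward F).obj E)) :=
      { complex := (K.mapHomologicalComplex (ComplexShape.down ℕ)).obj L
        projective := fun k => (IsProjective.iff_projective (K.obj (L.X k))).1
          (DerSchH7.projective_stalk_of_isFinLocFree (hL.finLocFree k) (φ y))
        π := (K.mapHomologicalComplex (ComplexShape.down ℕ)).map π ≫
          ((HomologicalComplex.singleMapHomologicalComplex K (ComplexShape.down ℕ) 0).app _).hom }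
    have hT : ∀ k, Subsingleton (DRing.Tor A (k + 1) ((resF' A B).obj (ModuleCat.of B B))
        (K.obj ((Scheme.Modules.pushforward F).obj E))) := by
      refine subsingleton_tor_stalk hF hcF hE (φ y) _ fun hy b hb => ?_
      obtain ⟨x, rfl⟩ := mem_range_of_mem_range hsq hy
      haveI : IsNoetherianRing B := inferInstance
      obtain ⟨c, hc, hcs⟩ := exists_seq f hf hcf x
      have h2 : Ideal.span (Set.range c) = Ideal.span (Set.range (algebraMap A B ∘ b)) := by
        rw [hcs, stalkIdeal_eq_map hsq x, ← hb, Ideal.map_span, Set.range_comp]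
        rfl
      have h3 := (S0611.result c _ hc h2).toIsWeaklyRegular
      rw [← List.map_ofFn, isWeaklyRegular_map_algebraMap_iff] at h3
      exact ((selfEquiv A B).isWeaklyRegular_congr _).1 h3
    have h0 := exactAt_tensor PR _ hT i
    rw [HomologicalComplex.exactAt_iff' _ (i + 2) (i + 1) i (by simp) (by simp)] at h0
    let S := L.sc' (i + 2) (i + 1) i
    have h1 : (((S.map K).map (bcF A B)).map (resF' A B)).Exact :=
      ShortComplex.exact_of_iso ((ShortComplex.mapNatIso _ (bcResIso A B)).symm :
        (S.map K).map ((MonoidalCategory.curriedTensor (ModuleCat.{u} A)).obj ((resF' A B).obj (ModuleCat.of B B))) ≅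
          (S.map K).map (bcF A B ⋙ resF' A B)) h0
    rw [ShortComplex.exact_map_iff_of_faithful] at h1
    exact ShortComplex.exact_of_iso ((ShortComplex.mapNatIso S (pullStalkNatIso φ y)).symm :
        S.map (stkF (φ y) ⋙ bcF A B) ≅ S.map (Scheme.Modules.pullback φ ⋙ stkF y)) h1
  let e := pullPushIso hsq E
  refine ⟨(G.mapHomologicalComplex (ComplexShape.down ℕ)).map π ≫
    ((HomologicalComplex.singleMapHomologicalComplex G (ComplexShape.down ℕ) 0).app _).hom ≫
      (ChainComplex.single₀ Y.Modules).map e.hom, ?_⟩
  haveI : QuasiIso ((G.mapHomologicalComplex (ComplexShape.down ℕ)).map π) := by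
    rw [quasiIso_iff]
    intro k
    cases k with
    | zero =>
      have h := (ChainComplex.quasiIsoAt₀_iff π).1 inferInstance
      rw [ShortComplex.quasiIso_iff_of_zeros'] at h
      case zero.hg₁ => simp
      case zero.hf₂ => simp
      case zero.hg₂ => simp
      obtain ⟨c⟩ := (ShortComplex.exact_and_epi_g_iff_g_is_cokernel _).1 h
      rw [ChainComplex.quasiIsoAt₀_iff, ShortComplex.quasiIso_iff_of_zeros']
      · refine (ShortComplex.exact_and_epi_g_iff_g_is_cokernel _).2 ⟨?_⟩
        exact CokernelCofork.mapIsColimit _ c G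
      all_goals first | simp | exact G.map_zero _ _ | rfl
    | succ k =>
      rw [quasiIsoAt_iff_exactAt' _ _ ((ChainComplex.exactAt_succ_single_obj _ k).of_iso
        ((HomologicalComplex.singleMapHomologicalComplex G (ComplexShape.down ℕ) 0).app _).symm)]
      exact hex k
  exact
    { finLocFree := fun k => PullbackMod.isFinLocFree_pullback φ _ (hL.finLocFree k)
      isZero := fun k hk => G.map_isZero (hL.isZero k hk)
      quasiIso := inferInstance }

end Groth.Agent.TorIndepLib
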